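import Groth.Agent.H1DFun.StalkCls
import Groth.Agent.H1DFun.ClsGrp
import Groth.Agent.H05EGA4.EtCl.FiniteCd
import Groth.Agent.H05EGA4.EtCl.PushVanish
import Groth.Agent.H18Et.FEtFieldLimit
import Groth.Agent.H12AlgSp.LqfDim

/-!
Finite relative cohomological dimension for morphisms of schemes of finite type over a field.
-/

set_option autoImplicit false
set_option linter.style.haveILetI false
set_option backward.isDefEq.respectTransparency false
set_option backward.isDefEq.respectTransparency.types false

universe u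

open CategoryTheory CategoryTheory.Limits AlgebraicGeometry Opposite

namespace Groth.Agent.H18RelCd

open Groth.Agent.H18Et Groth.Agent.H1Lim Groth.Agent.H1DFun
open FEtFieldLimit (FinInt specDiag specCone base baseMap)
open scoped Groth.Agent.H18Et

attribute [local instance] Groth.Agent.H18Et.pull_preservesFiniteLimits

/-- The spectrum of an extension over the field. -/
noncomputable abbrev str (K L : Type u) [Field K] [Field L] [Algebra K L] :
    Spec (CommRingCat.of L) ⟶ Spec (CommRingCat.of K) :=
  Spec.map (CommRingCat.ofHom (algebraMap K L))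

section Descent

variable (K Ks : Type u) [Field K] [Field Ks] [Algebra K Ks] [Algebra.IsAlgebraic K Ks]

/-- A class vanishing over an algebraic extension vanishes over a finite subextension. -/
theorem exists_finite_kill {T W : Scheme.{u}} [CompactSpace W] [QuasiSeparatedSpace W]
    (t : W ⟶ Spec (CommRingCat.of K)) (a : W ⟶ T) (G : EtCoh.Ab T) (q : ℕ)
    (x : Sheaf.H ((EtCoh.pull a).obj G) q)
    (h : rT G q (pullback.fst t (str K Ks)) rfl x = 0) :
    ∃ L : IntermediateField K Ks, FiniteDimensional K L ∧ rT G q (pullback.fst t (str K L)) rfl x = 0 := by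
  haveI : IsFiltered (FinInt K Ks) := isFiltered_of_directed_le_nonempty _
  let hc : IsLimit (specCone K Ks) := isLimitOfPreserves Scheme.Spec (FEtFieldLimit.isColimitFieldCocone K Ks).op
  let a₀ : pullback t (baseMap K Ks) ⟶ (specDiag K Ks).obj (base K Ks) := pullback.snd t (baseMap K Ks)
  haveI : QuasiCompact t := inferInstance
  haveI : QuasiSeparated t := inferInstance
  haveI : CompactSpace ↥(pullback t (baseMap K Ks)) :=
    haveI : QuasiCompact a₀ := MorphismProperty.pullback_snd _ _ inferInstance
    haveI : CompactSpace ↥((specDiag K Ks).obj (base K Ks)) := inferInstanceAs (CompactSpace ↥(Spec _))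
    QuasiCompact.compactSpace_of_compactSpace a₀
  haveI : QuasiSeparatedSpace ↥(pullback t (baseMap K Ks)) :=
    haveI : QuasiSeparated a₀ := MorphismProperty.pullback_snd _ _ inferInstance
    haveI : QuasiSeparatedSpace ↥((specDiag K Ks).obj (base K Ks)) := inferInstanceAs (QuasiSeparatedSpace ↥(Spec _))
    quasiSeparatedSpace_of_quasiSeparated a₀
  let D' := H7Lim.pbDiagram (specDiag K Ks) (base K Ks) a₀
  let c' := H7Lim.pbCone (specDiag K Ks) (specCone K Ks) (base K Ks) a₀
  haveI : ∀ ⦃i j : Over (base K Ks)⦄ (g : i ⟶ j), IsAffineHom (D'.map g) := fun i j g =>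
    H7Lim.isAffineHom_pbDiagram_map (specDiag K Ks) (base K Ks) a₀ i j g
  haveI : ∀ j, CompactSpace ↥(D'.obj j) := fun j =>
    haveI : IsAffineHom ((specDiag K Ks).map j.hom) := inferInstance
    H7Lim.compactSpace_pbDiagram_obj (specDiag K Ks) (base K Ks) a₀ j
  haveI : ∀ j, QuasiSeparatedSpace ↥(D'.obj j) := fun j =>
    H7Lim.quasiSeparatedSpace_pbDiagram_obj (specDiag K Ks) (base K Ks) a₀ j
  let p : ∀ j, D'.obj j ⟶ W := fun j =>
    pullback.fst a₀ ((specDiag K Ks).map j.hom) ≫ pullback.fst t (baseMap K Ks)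
  have hp : ∀ (i j : Over (base K Ks)) (g : j ⟶ i), D'.map g ≫ p i = p j := fun i j g => by
    simp [D', p]
  let pI : c'.pt ⟶ W := pullback.fst a₀ _ ≫ pullback.fst t (baseMap K Ks)
  have hpI : ∀ j, c'.π.app j ≫ p j = pI := fun j => by simp [c', p, pI]
  have hg : (specCone K Ks).π.app (base K Ks) ≫ baseMap K Ks = str K Ks := by
    rw [baseMap]
    exact (Spec.map_comp _ _).symm.trans (congrArg (fun φ => Spec.map φ)
      (CommRingCat.hom_ext ((IsScalarTower.algebraMap_eq K (⊥ : IntermediateField K Ks) Ks).symm)))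
  let u : c'.pt ⟶ pullback t (str K Ks) :=
    pullback.lift pI (pullback.snd a₀ _) (by
      simp only [pI, Category.assoc, pullback.condition (f := t) (g := baseMap K Ks), ← hg]
      exact (Category.assoc _ _ _).symm.trans ((congrArg (· ≫ baseMap K Ks) pullback.condition).trans
        (Category.assoc _ _ _)))
  let j₀ : Over (base K Ks) := Over.mk (𝟙 _)
  obtain ⟨k, b, hb⟩ := (constSys_surj_inj (fun j => p j ≫ a) (fun {i l} g => by rw [← Category.assoc, hp i l g]) G c'
    (pI ≫ a) (fun j => by rw [← Category.assoc, hpI j]) (H7Lim.isLimitPbCone _ _ a₀ hc) q).2 j₀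
    (rT G q (p j₀) rfl x) (by
      refine (rT_comp G q (p j₀) rfl (c'.π.app j₀) _ pI (hpI j₀) x).trans ?_
      refine ((rT_comp G q (pullback.fst t (str K Ks)) rfl u
        (show u ≫ pullback.fst t (str K Ks) ≫ a = pI ≫ a by rw [pullback.lift_fst_assoc]) pI
        (pullback.lift_fst _ _ _) x).symm).trans ?_
      rw [h, map_zero])
  have hb' : rT G q (D'.map b) (show D'.map b ≫ p j₀ ≫ a = p k ≫ a by rw [← Category.assoc, hp j₀ k b])
      (rT G q (p j₀) rfl x) = 0 :=
    (HpullVia_def _ _ _ _ _ _ _).trans ((congrArg _ hb).trans (map_zero _))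
  rw [rT_comp G q (p j₀) rfl _ _ (p k) (hp j₀ k b)] at hb'
  let L := k.left.unop.1
  refine ⟨L, k.left.unop.2, ?_⟩
  have hgL : (specDiag K Ks).map k.hom ≫ baseMap K Ks = str K L := by
    rw [baseMap]
    exact (Spec.map_comp _ _).symm.trans (congrArg (fun φ => Spec.map φ) (CommRingCat.hom_ext (RingHom.ext fun y =>
      (IntermediateField.inclusion (leOfHom k.hom.unop)).commutes y)))
  let v : pullback t (str K L) ⟶ D'.obj k :=
    pullback.lift (pullback.lift (pullback.fst t (str K L)) (pullback.snd t (str K L) ≫ (specDiag K Ks).map k.hom)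
      (by rw [Category.assoc, hgL, pullback.condition])) (pullback.snd t (str K L)) (pullback.lift_snd _ _ _)
  have hv : v ≫ p k = pullback.fst t (str K L) := by simp [v, p]
  have := (rT_comp G q (p k) rfl v (show v ≫ p k ≫ a = pullback.fst t (str K L) ≫ a by rw [← Category.assoc, hv])
    (pullback.fst t (str K L)) hv x).symm
  rw [this, hb', map_zero]

end Descent

theorem cohDimLE_sepClosed (K : Type u) [Field K] [IsSepClosed K] :
    EtCoh.CohDimLE (Spec (CommRingCat.of K)) 0 := fun F _ q hq => by
  obtain ⟨i, rfl⟩ := Nat.exists_eq_add_of_le' hq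
  exact H05EGA4.EtCl.subsingleton_H_over_sepClosed K K F i

open H05EGA4.EtCl in
theorem cohDimLE_of_dim_le {K : Type u} [Field K] [IsSepClosed K] {Z : Scheme.{u}}
    (g : Z ⟶ Spec (CommRingCat.of K)) [LocallyOfFiniteType g] [QuasiCompact g] {n : ℕ}
    (hn : topologicalKrullDim Z ≤ n) : EtCoh.CohDimLE Z (2 * n) := by
  haveI : IsLocallyNoetherian Z := LocallyOfFiniteType.isLocallyNoetherian g
  haveI : CompactSpace Z := QuasiCompact.compactSpace_of_compactSpace g
  haveI : AlgebraicGeometry.IsNoetherian Z := {}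
  refine cohDimLE_of_cohDimLEAt _ fun ℓ hℓ F hF q hq => ?_
  refine subsingleton_H_of_cdFun (trdegCdFun g hℓ (cohDimLEAt_of_cohDimLE hℓ (cohDimLE_sepClosed K))) hℓ F hF q
    fun x _ => ?_
  have := delta_le g hn x
  show 0 + 2 * delta g x < q
  omega

/-- Finite relative cohomological dimension over a field. -/
theorem exists_relCohDimLE {K : Type u} [Field K] {X Y : Scheme.{u}} (a : X ⟶ Spec (CommRingCat.of K))
    (b : Y ⟶ Spec (CommRingCat.of K)) [LocallyOfFiniteType a] [QuasiCompact a] [LocallyOfFiniteType b]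
    [QuasiCompact b] (f : X ⟶ Y) (w : f ≫ b = a) [EtCoh.BCCont f] :
    ∃ d : ℕ, EtCoh.RelCohDimLE f d := by
  haveI : IsLocallyNoetherian Y := LocallyOfFiniteType.isLocallyNoetherian b
  haveI : IsLocallyNoetherian X := LocallyOfFiniteType.isLocallyNoetherian a
  haveI : QuasiSeparated b := inferInstance
  haveI : QuasiCompact f := by
    haveI : QuasiCompact (f ≫ b) := by rw [w]; infer_instance
    exact QuasiCompact.of_comp f b
  haveI : QuasiSeparated f := inferInstance
  let Ks := SeparableClosure K
  let s := str K Ks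
  haveI : LocallyOfFiniteType (pullback.snd a s) := MorphismProperty.pullback_snd _ _ inferInstance
  haveI : QuasiCompact (pullback.snd a s) := MorphismProperty.pullback_snd _ _ inferInstance
  haveI : IsLocallyNoetherian (pullback a s) := LocallyOfFiniteType.isLocallyNoetherian (pullback.snd a s)
  haveI : CompactSpace ↥(pullback a s) := QuasiCompact.compactSpace_of_compactSpace (pullback.snd a s)
  haveI : AlgebraicGeometry.IsNoetherian (pullback a s) := {}
  obtain ⟨n, hn⟩ := H05EGA4.EtCl.exists_delta_bound (pullback.snd a s)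
  have hdim : topologicalKrullDim ↥(pullback a s) ≤ n := by
    rw [H8Props.FieldDim.dim_eq_iSup_cdim]
    refine iSup_le fun z => ?_
    rw [H05EGA4.EtCl.cdim_eq_delta (pullback.snd a s) z]
    exact_mod_cast hn z
  refine ⟨2 * n, fun F hF q hq => ?_⟩
  rw [isZero_iff_stalk]
  intro Ω _ _ ξ
  refine AddCommGrpCat.isZero_iff_subsingleton.2 (subsingleton_of_forall_eq 0 fun y => ?_)
  obtain ⟨U, z, x₀, rfl⟩ := exists_toSect_germ f F q ξ y
  obtain ⟨P, hP, i, z', hz'⟩ := Cons.exists_affine_nbhd z
  haveI := hP
  subst hz'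
  refine ((ConstSheaf.germ_map ξ _ i z' (toSect f F q U x₀)).symm.trans (congrArg _ (toSect_map f F q i x₀))).trans ?_
  generalize r0 f F q i x₀ = x
  clear x₀
  let W := ((EtCoh.bc f).obj P).left
  let h : W ⟶ X := ((EtCoh.bc f).obj P).hom
  haveI : Etale h := ((EtCoh.bc f).obj P).prop
  haveI : CompactSpace W := (H18Et.Coh.qcqs_bc f P).1
  haveI : QuasiSeparatedSpace W := (H18Et.Coh.qcqs_bc f P).2
  let t : W ⟶ Spec (CommRingCat.of K) := h ≫ a
  let π : pullback t s ⟶ pullback a s := pullback.lift (pullback.fst t s ≫ h) (pullback.snd t s)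
    (by rw [Category.assoc]; exact pullback.condition)
  haveI : Etale π := by
    have hsq : IsPullback π (pullback.fst t s) (pullback.fst a s) h :=
      IsPullback.of_right (h₁₂ := pullback.snd a s) (h₂₂ := a) (v₁₃ := s)
        (by rw [pullback.lift_snd]; exact (IsPullback.of_hasPullback t s).flip) (pullback.lift_fst _ _ _)
        (IsPullback.of_hasPullback a s).flip
    exact MorphismProperty.of_isPullback hsq.flip ‹Etale h›
  haveI : LocallyOfFiniteType (pullback.snd t s) := MorphismProperty.pullback_snd _ _ inferInstance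
  haveI : QuasiCompact t := inferInstance
  haveI : QuasiCompact (pullback.snd t s) := MorphismProperty.pullback_snd _ _ inferInstance
  have hcd := cohDimLE_of_dim_le (pullback.snd t s) ((H12AlgSp.topologicalKrullDim_le_of_lqf π).trans hdim)
  haveI := hcd _ (H18Et.Coh.isTorsion_pull (pullback.fst t s ≫ h) F hF) q hq
  obtain ⟨L, hL, hx⟩ := exists_finite_kill K Ks t h F q x (Subsingleton.elim _ _)
  haveI := hL
  let sL := str K L
  haveI : Etale sL := by
    haveI : Algebra.FormallyEtale K L := Algebra.FormallyEtale.of_isSeparable K L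
    haveI : Algebra.FinitePresentation K L := Algebra.FinitePresentation.of_finiteType.1 inferInstance
    haveI : Algebra.Etale K L := ⟨‹_›, ‹_›⟩
    exact (HasRingHomProperty.Spec_iff (P := @Etale)).2 (RingHom.etale_algebraMap.2 inferInstance)
  let tP : P.left ⟶ Spec (CommRingCat.of K) := P.hom ≫ b
  haveI : Etale P.hom := P.prop
  haveI : Etale (pullback.fst tP sL) := MorphismProperty.pullback_fst (P := @Etale) _ _ inferInstance
  let PL : Y.Etale := MorphismProperty.Over.mk ⊤ (pullback.fst tP sL ≫ P.hom) inferInstance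
  let m : PL ⟶ P := MorphismProperty.Over.homMk (pullback.fst tP sL) rfl trivial
  obtain ⟨v, hv⟩ := (inferInstance : Surjective (pullback.fst tP sL)).surj (ptOf z')
  obtain ⟨z'', rfl⟩ := exists_fiber_lift m z' v hv
  refine ((ConstSheaf.germ_map ξ _ m z'' (toSect f F q P x)).symm.trans (congrArg _ (toSect_map f F q m x))).trans ?_
  let mW : ((EtCoh.bc f).obj PL).left ⟶ W := ((EtCoh.bc f).map m).left
  let ν : ((EtCoh.bc f).obj PL).left ⟶ pullback t sL :=
    pullback.lift mW (pullback.fst PL.hom f ≫ pullback.snd tP sL) (by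
      have h1 : mW ≫ pullback.fst P.hom f = pullback.fst PL.hom f ≫ pullback.fst tP sL := pullback.lift_fst _ _ _
      rw [Category.assoc, ← pullback.condition (f := tP) (g := sL), ← Category.assoc (pullback.fst PL.hom f), ← h1,
        Category.assoc]
      show mW ≫ h ≫ a = mW ≫ pullback.fst P.hom f ≫ P.hom ≫ b
      rw [pullback.condition_assoc, w]
      rfl)
  have h0 : r0 f F q m x = 0 := by
    refine Eq.trans ?_ ((congrArg (rT F q ν (show ν ≫ pullback.fst t sL ≫ h = ((EtCoh.bc f).obj PL).hom by
      rw [pullback.lift_fst_assoc]; exact MorphismProperty.Over.w ((EtCoh.bc f).map m))) hx).trans (map_zero _))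
    exact (rT_comp F q (pullback.fst t sL) rfl ν _ mW (pullback.lift_fst _ _ _) x).symm
  rw [h0, map_zero, map_zero]

end Groth.Agent.H18RelCd
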